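import Mathlib
import Cfsg.Prelude.Def_CaseTheorems
import Cfsg.Prelude.Def_SporCoxeter
import Cfsg.Prelude.Def_Spor_Fi22
import Cfsg.Prelude.Def_Spor_Fi23
import Cfsg.Prelude.Def_Spor_Fi24
import Cfsg.Prelude.Def_Spor_B
import Cfsg.Prelude.Def_Spor_M
import Cfsg.Prelude.Def_Sporadic
import Cfsg.Agent.Mrg.Omega.TwoF.FiWords

section


/-!
# Table of S1731: criterion for 3-rank at least 3
-/

set_option autoImplicit false

namespace Cfsg.Agent.Omega.Quasithin.Row.E27

open Subgroup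
open scoped commutatorElement

variable {G : Type*} [Group G]

/-- Elements of a commutative group generated by elements of exponent 3 have exponent 3. -/
theorem pow_closure {s : Set G} (hc : ∀ x ∈ s, ∀ y ∈ s, x * y = y * x) (h3 : ∀ x ∈ s, x ^ 3 = 1) :
    (∀ x ∈ closure s, ∀ y ∈ closure s, x * y = y * x) ∧ ∀ x ∈ closure s, x ^ 3 = 1 := by
  have h1 : ∀ x ∈ closure s, ∀ y ∈ closure s, x * y = y * x := by
    have h2 : closure s ≤ centralizer (s : Set G) := by
      rw [closure_le]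
      intro x hx
      rw [SetLike.mem_coe, mem_centralizer_iff]
      exact fun y hy => hc y hy x hx
    have h3 : closure s ≤ centralizer (closure s : Set G) := by
      rw [closure_le]
      intro x hx
      rw [SetLike.mem_coe, mem_centralizer_iff]
      intro y hy
      exact ((mem_centralizer_iff.1 (h2 hy)) x hx).symm
    intro x hx y hy
    exact (mem_centralizer_iff.1 (h3 hy)) x hx
  refine ⟨h1, fun x hx => ?_⟩
  induction hx using closure_induction with
  | mem x hx => exact h3 x hx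
  | one => exact one_pow 3
  | mul x y hx hy ih1 ih2 =>
    have : Commute x y := h1 x hx y hy
    rw [this.mul_pow, ih1, ih2, one_mul]
  | inv x hx ih => rw [inv_pow, ih, inv_one]

theorem three_mul_card_le {A B : Subgroup G} [Finite B] (hB : IsPGroup 3 B) (h : A < B) : 3 * Nat.card A ≤ Nat.card B := by
  have : Fact (Nat.Prime 3) := ⟨Nat.prime_three⟩
  have h1 : Nat.card (A.subgroupOf B) * (A.subgroupOf B).index = Nat.card B := Subgroup.card_mul_index _
  rw [Nat.card_congr (Subgroup.subgroupOfEquivOfLe h.le).toEquiv] at h1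
  obtain ⟨n, hn⟩ := hB.index (A.subgroupOf B)
  have h2 : n ≠ 0 := by
    rintro rfl
    rw [pow_zero, index_eq_one, subgroupOf_eq_top] at hn
    exact h.not_ge hn
  have h3 : 3 ≤ (A.subgroupOf B).index := by
    rw [hn]
    calc 3 = 3 ^ 1 := (pow_one 3).symm
      _ ≤ 3 ^ n := Nat.pow_le_pow_right (by norm_num) (Nat.one_le_iff_ne_zero.2 h2)
  rw [← h1, mul_comm]
  exact Nat.mul_le_mul_left _ h3

/-- **Criterion.** Three commuting elements of order 3, such that some `b` commutes with `x` and inverts `y` and some `c`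
commutes with `x` and `y` and inverts `w`. -/
theorem not_rank_sub {x y w b c : G} (hx : x ^ 3 = 1) (hy : y ^ 3 = 1) (hw : w ^ 3 = 1)
    (hx1 : x ≠ 1) (hy1 : y ≠ 1) (hw1 : w ≠ 1) (hxy : x * y = y * x) (hxw : x * w = w * x) (hyw : y * w = w * y)
    (hbx : b * x * b⁻¹ = x) (hby : b * y * b⁻¹ = y⁻¹) (hcx : c * x * c⁻¹ = x) (hcy : c * y * c⁻¹ = y)
    (hcw : c * w * c⁻¹ = w⁻¹) (H : Subgroup G) [Finite H] (hxH : x ∈ H) (hyH : y ∈ H) (hwH : w ∈ H) :
    ¬ Cfsg.PRankLE 3 2 H := by
  intro h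
  have hsq : ∀ g : G, g ^ 3 = 1 → g = g⁻¹ → g = 1 := by
    intro g h3 h2
    have h4 : g * g = 1 := by nth_rewrite 2 [h2]; exact mul_inv_cancel g
    rw [pow_succ, pow_two, h4, one_mul] at h3
    exact h3
  -- conjugation fixes closures
  have hfix : ∀ (k : G) (s : Set G), (∀ z ∈ s, k * z * k⁻¹ = z) → ∀ z ∈ closure s, k * z * k⁻¹ = z := by
    intro k s hs z hz
    induction hz using closure_induction with
    | mem z hz => exact hs z hz
    | one => group
    | mul z z' _ _ ih1 ih2 =>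
      calc k * (z * z') * k⁻¹ = (k * z * k⁻¹) * (k * z' * k⁻¹) := by group
        _ = z * z' := by rw [ih1, ih2]
    | inv z _ ih =>
      calc k * z⁻¹ * k⁻¹ = (k * z * k⁻¹)⁻¹ := by group
        _ = z⁻¹ := by rw [ih]
  let A₁ : Subgroup G := closure {x}
  let A₂ : Subgroup G := closure {x, y}
  let A₃ : Subgroup G := closure {x, y, w}
  obtain ⟨hc, h3⟩ := pow_closure (s := ({x, y, w} : Set G)) (by
    rintro p (rfl | rfl | rfl) q (rfl | rfl | rfl) <;> first | rfl | assumption | (symm; assumption)) (by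
    rintro p (rfl | rfl | rfl) <;> assumption)
  have h12 : A₁ ≤ A₂ := closure_mono (by simp)
  have h23 : A₂ ≤ A₃ := closure_mono (by
    rintro p (rfl | rfl) <;> simp)
  have hp : IsPGroup 3 A₃ := fun z => ⟨1, Subtype.ext (by simpa using h3 z.1 z.2)⟩
  have hlt0 : (⊥ : Subgroup G) < A₁ := by
    rw [bot_lt_iff_ne_bot]
    intro h0
    apply hx1
    rw [← mem_bot, ← h0]
    exact subset_closure rfl
  have hlt1 : A₁ < A₂ := by
    refine lt_of_le_of_ne h12 fun he => ?_
    have hy2 : y ∈ A₁ := by rw [he]; exact subset_closure (by simp)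
    have h4 := hfix b {x} (by rintro z rfl; exact hbx) y hy2
    rw [hby] at h4
    exact hy1 (hsq y hy h4.symm)
  have hlt2 : A₂ < A₃ := by
    refine lt_of_le_of_ne h23 fun he => ?_
    have hw2 : w ∈ A₂ := by rw [he]; exact subset_closure (by simp)
    have h4 := hfix c {x, y} (by rintro z (rfl | rfl) <;> assumption) w hw2
    rw [hcw] at h4
    exact hw1 (hsq w hw h4.symm)
  have hAH : A₃ ≤ H := by
    rw [closure_le]
    rintro p (rfl | rfl | rfl) <;> assumption
  have f3 : Finite A₃ := Finite.of_injective _ (Subgroup.inclusion_injective hAH)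
  have f2 : Finite A₂ := Finite.of_injective _ (Subgroup.inclusion_injective h23)
  have f1 : Finite A₁ := Finite.of_injective _ (Subgroup.inclusion_injective h12)
  have e0 := three_mul_card_le (hp.to_le (h12.trans h23)) hlt0
  have e1 := three_mul_card_le (hp.to_le h23) hlt1
  have e2 := three_mul_card_le hp hlt2
  rw [card_bot] at e0
  have hcomm : IsMulCommutative (A₃.subgroupOf H) :=
    ⟨⟨fun a b => Subtype.ext (Subtype.ext (hc _ a.2 _ b.2))⟩⟩
  have h5 := h (A₃.subgroupOf H) hcomm (fun a ha => Subtype.ext (h3 _ ha))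
  rw [Nat.card_congr (Subgroup.subgroupOfEquivOfLe hAH).toEquiv] at h5
  norm_num at h5
  omega

/-- The rank condition passes to subgroups and isomorphic groups. -/
theorem prank_of_injective {H : Type*} [Group H] {p k : ℕ} (f : H →* G) (hf : Function.Injective f)
    (h : Cfsg.PRankLE p k G) : Cfsg.PRankLE p k H := by
  intro A hA h3
  have h1 : IsMulCommutative (A.map f) := ⟨⟨by
    rintro ⟨_, a, ha, rfl⟩ ⟨_, b, hb, rfl⟩
    apply Subtype.ext
    show f a * f b = f b * f a
    rw [← map_mul, ← map_mul]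
    congr 1
    exact congrArg Subtype.val (hA.is_comm.comm (⟨a, ha⟩ : A) ⟨b, hb⟩)⟩⟩
  have h2 := h (A.map f) h1 (by
    rintro _ ⟨a, ha, rfl⟩
    rw [← map_pow, h3 a ha, map_one])
  rwa [← Nat.card_congr (A.equivMapOfInjective f hf).toEquiv] at h2

/-- `not_rank_sub` for the whole group -/
theorem not_rank [Finite G] {x y w b c : G} (hx : x ^ 3 = 1) (hy : y ^ 3 = 1) (hw : w ^ 3 = 1)
    (hx1 : x ≠ 1) (hy1 : y ≠ 1) (hw1 : w ≠ 1) (hxy : x * y = y * x) (hxw : x * w = w * x) (hyw : y * w = w * y)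
    (hbx : b * x * b⁻¹ = x) (hby : b * y * b⁻¹ = y⁻¹) (hcx : c * x * c⁻¹ = x) (hcy : c * y * c⁻¹ = y)
    (hcw : c * w * c⁻¹ = w⁻¹) : ¬ Cfsg.PRankLE 3 2 G := fun h =>
  not_rank_sub hx hy hw hx1 hy1 hw1 hxy hxw hyw hbx hby hcx hcy hcw ⊤ (mem_top _) (mem_top _) (mem_top _)
    (prank_of_injective (⊤ : Subgroup G).subtype (Subgroup.subtype_injective _) h)

/-- Three commuting pairs of involutions (three disjoint edges of a Coxeter diagram). -/
theorem not_rank_of_edges {p₁ q₁ p₂ q₂ p₃ q₃ : G}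
    (s₁' : q₁ * q₁ = 1) (s₂ : p₂ * p₂ = 1) (s₂' : q₂ * q₂ = 1) (s₃ : p₃ * p₃ = 1) (s₃' : q₃ * q₃ = 1)
    (b₁ : (p₁ * q₁) ^ 3 = 1) (b₂ : (p₂ * q₂) ^ 3 = 1) (b₃ : (p₃ * q₃) ^ 3 = 1)
    (n₁ : p₁ ≠ q₁) (n₂ : p₂ ≠ q₂) (n₃ : p₃ ≠ q₃)
    (c12 : p₁ * p₂ = p₂ * p₁) (c12' : p₁ * q₂ = q₂ * p₁) (c12'' : q₁ * p₂ = p₂ * q₁) (c12''' : q₁ * q₂ = q₂ * q₁)
    (c13 : p₁ * p₃ = p₃ * p₁) (c13' : p₁ * q₃ = q₃ * p₁) (c13'' : q₁ * p₃ = p₃ * q₁) (c13''' : q₁ * q₃ = q₃ * q₁)
    (c23 : p₂ * p₃ = p₃ * p₂) (c23' : p₂ * q₃ = q₃ * p₂) (c23'' : q₂ * p₃ = p₃ * q₂) (c23''' : q₂ * q₃ = q₃ * q₂)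
    (H : Subgroup G) [Finite H] (m₁ : p₁ * q₁ ∈ H) (m₂ : p₂ * q₂ ∈ H) (m₃ : p₃ * q₃ ∈ H) :
    ¬ Cfsg.PRankLE 3 2 H := by
  have inv : ∀ {g : G}, g * g = 1 → g⁻¹ = g := fun h => inv_eq_of_mul_eq_one_left h
  have ne : ∀ {p q : G}, q * q = 1 → p ≠ q → p * q ≠ 1 := by
    intro p q hq hpq h
    rw [mul_eq_one_iff_eq_inv, inv hq] at h
    exact hpq h
  have cc : ∀ {p q p' q' : G}, p * p' = p' * p → p * q' = q' * p → q * p' = p' * q → q * q' = q' * q →
      (p * q) * (p' * q') = (p' * q') * (p * q) := by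
    intro p q p' q' h1 h2 h3 h4
    have e1 : Commute p p' := h1
    have e2 : Commute p q' := h2
    have e3 : Commute q p' := h3
    have e4 : Commute q q' := h4
    exact ((e1.mul_right e2).mul_left (e3.mul_right e4)).eq
  have cj : ∀ {p q r : G}, r * p = p * r → r * q = q * r → r * (p * q) * r⁻¹ = p * q := by
    intro p q r h1 h2
    have e1 : Commute r p := h1
    have e2 : Commute r q := h2
    rw [(e1.mul_right e2).eq, mul_inv_cancel_right]
  have ci : ∀ {p q : G}, p * p = 1 → q * q = 1 → p * (p * q) * p⁻¹ = (p * q)⁻¹ := by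
    intro p q hp hq
    rw [mul_inv_rev, inv hp, inv hq, ← mul_assoc, hp, one_mul]
  exact not_rank_sub (x := p₁ * q₁) (y := p₂ * q₂) (w := p₃ * q₃) (b := p₂) (c := p₃) b₁ b₂ b₃ (ne s₁' n₁) (ne s₂' n₂) (ne s₃' n₃)
    (cc c12 c12' c12'' c12''') (cc c13 c13' c13'' c13''') (cc c23 c23' c23'' c23''')
    (cj c12.symm c12''.symm) (ci s₂ s₂') (cj c13.symm c13''.symm) (cj c23.symm c23''.symm) (ci s₃ s₃') H m₁ m₂ m₃

/-! ### Coxeter relations -/

/-- one step in a Coxeter diagram: if `P = Q`, `Q`, `R` joined, `P`, `R` not joined, then `Q = R` -/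
theorem step {P Q R : G} (sR : R * R = 1) (h : P = Q) (b : (Q * R) ^ 3 = 1) (c : P * R = R * P) (sQ : Q * Q = 1) :
    Q = R := by
  subst h
  have h1 : (P * R) ^ 2 = 1 := by
    rw [pow_two]
    calc P * R * (P * R) = P * (R * P) * R := by group
      _ = P * P * (R * R) := by rw [← c]; group
      _ = 1 := by rw [sR, sQ, one_mul]
  rw [pow_succ, h1, one_mul, mul_eq_one_iff_eq_inv, inv_eq_of_mul_eq_one_left sR] at b
  exact b

section

variable {α : Type*} [DecidableEq α] {edges : List (α × ℕ × α)} {extra : List (FreeGroup α)}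

open Cfsg.Spor

theorem cox {x y : α} (hx : x ∈ coxNodes edges) (hy : y ∈ coxNodes edges) :
    ((PresentedGroup.of x : CoxPresented α edges extra) * PresentedGroup.of y) ^ coxLabel edges x y = 1 := by
  have h : PresentedGroup.mk (coxRelators edges ∪ {r | r ∈ extra}) ((FreeGroup.of x * FreeGroup.of y) ^ coxLabel edges x y) = 1 :=
    PresentedGroup.one_of_mem (Or.inl ⟨x, hx, y, hy, rfl⟩)
  rw [map_pow, map_mul] at h
  exact h

/-- squares -/
theorem cox_sq {x : α} (hx : x ∈ coxNodes edges) :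
    (PresentedGroup.of x : CoxPresented α edges extra) * PresentedGroup.of x = 1 := by
  have h := cox (extra := extra) hx hx
  rwa [coxLabel, if_pos rfl, pow_one] at h

/-- joined nodes -/
theorem cox_three {x y : α} (hx : x ∈ coxNodes edges) (hy : y ∈ coxNodes edges) (h3 : coxLabel edges x y = 3) :
    ((PresentedGroup.of x : CoxPresented α edges extra) * PresentedGroup.of y) ^ 3 = 1 := by
  have h := cox (extra := extra) hx hy
  rwa [h3] at h

/-- nodes which are not joined -/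
theorem cox_comm {x y : α} (hx : x ∈ coxNodes edges) (hy : y ∈ coxNodes edges) (h2 : coxLabel edges x y = 2) :
    (PresentedGroup.of x : CoxPresented α edges extra) * PresentedGroup.of y = PresentedGroup.of y * PresentedGroup.of x := by
  have h := cox (extra := extra) hx hy
  rw [h2, pow_two] at h
  have sx := cox_sq (extra := extra) hx
  have sy := cox_sq (extra := extra) hy
  have h1 : (PresentedGroup.of x : CoxPresented α edges extra) * PresentedGroup.of y =
      ((PresentedGroup.of x : CoxPresented α edges extra) * PresentedGroup.of y)⁻¹ := eq_inv_of_mul_eq_one_left h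
  rw [mul_inv_rev, inv_eq_of_mul_eq_one_left sx, inv_eq_of_mul_eq_one_left sy] at h1
  exact h1

/-- If all generators are equal, the group is commutative. -/
theorem comm_of_eq {g : CoxPresented α edges extra}
    (h : ∀ x : α, (PresentedGroup.of x : CoxPresented α edges extra) = g) (a b : CoxPresented α edges extra) :
    a * b = b * a := by
  have h1 : zpowers g = ⊤ := by
    rw [eq_top_iff, ← PresentedGroup.closure_range_of, closure_le]
    rintro _ ⟨x, rfl⟩
    rw [SetLike.mem_coe, h x]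
    exact mem_zpowers g
  obtain ⟨i, rfl⟩ := mem_zpowers_iff.1 (h1.symm ▸ mem_top a : a ∈ zpowers g)
  obtain ⟨j, rfl⟩ := mem_zpowers_iff.1 (h1.symm ▸ mem_top b : b ∈ zpowers g)
  rw [← zpow_add, ← zpow_add, add_comm]

end

/-- a product of two elements with product of order 3 and squares trivial is a commutator -/
theorem mul_mem_commutator {p q : G} (hp : p * p = 1) (hq : q * q = 1) (h : (p * q) ^ 3 = 1) : p * q ∈ commutator G := by
  have h1 : p * q = ⁅q, p⁆ := by
    rw [commutatorElement_def, inv_eq_of_mul_eq_one_left hp, inv_eq_of_mul_eq_one_left hq]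
    have e : (p * q) * (p * q) * (p * q) = 1 := by rw [← h, pow_succ, pow_two]
    calc p * q = (p * q) * (p * q) * (p * q) * ((p * q)⁻¹ * (p * q)⁻¹) := by group
      _ = (p * q)⁻¹ * (p * q)⁻¹ := by rw [e, one_mul]
      _ = q * p * q * p := by
        rw [mul_inv_rev, inv_eq_of_mul_eq_one_left hp, inv_eq_of_mul_eq_one_left hq]; group
  rw [h1, _root_.commutator_def]
  exact commutator_mem_commutator (mem_top _) (mem_top _)

end Cfsg.Agent.Omega.Quasithin.Row.E27

end

section


/-!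
# Table of S1731: the 3-rank of the groups presented on Coxeter diagrams `Y_pqr` is at least 3

Three disjoint edges of the diagram give three commuting elements of order 3.
-/

set_option autoImplicit false
set_option maxRecDepth 10000

namespace Cfsg.Agent.Omega.Quasithin.Row.Cox

open Subgroup Cfsg.Spor Cfsg.Agent.Omega.Quasithin.Row.E27

/-- a walk in a Coxeter diagram -/
def walk {α : Type*} [DecidableEq α] (edges : List (α × ℕ × α)) : List α → List (α × α × α) → List α
  | ks, [] => ks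
  | ks, (x, y, r) :: l =>
    if x ∈ ks ∧ y ∈ ks ∧ coxLabel edges y r = 3 ∧ coxLabel edges x r = 2 then walk edges (r :: ks) l else walk edges ks l

section

variable {α : Type*} [DecidableEq α] {edges : List (α × ℕ × α)} {extra : List (FreeGroup α)}

theorem of_walk (hn : ∀ x : α, x ∈ coxNodes edges) {g : CoxPresented α edges extra} (l : List (α × α × α)) :
    ∀ ks : List α, (∀ x ∈ ks, (PresentedGroup.of x : CoxPresented α edges extra) = g) →
    ∀ x ∈ walk edges ks l, (PresentedGroup.of x : CoxPresented α edges extra) = g := by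
  induction l with
  | nil => intro ks h x hx; exact h x hx
  | cons a l ih =>
    obtain ⟨x, y, r⟩ := a
    intro ks h
    rw [walk]
    split_ifs with hc
    · obtain ⟨hx, hy, h3, h2⟩ := hc
      apply ih
      intro z hz
      rcases List.mem_cons.1 hz with rfl | hz
      · have h4 := step (P := (PresentedGroup.of x : CoxPresented α edges extra)) (Q := PresentedGroup.of y)
          (R := PresentedGroup.of z) (cox_sq (hn z)) ((h x hx).trans (h y hy).symm) (cox_three (hn y) (hn z) h3)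
          (cox_comm (hn x) (hn z) h2) (cox_sq (hn y))
        rw [← h4]
        exact h y hy
      · exact h z hz
    · exact ih ks h

/-- joined nodes are different -/
theorem ne_of_walk (hn : ∀ x : α, x ∈ coxNodes edges) (hcard : ¬ ∀ a b : CoxPresented α edges extra, a * b = b * a) (p q : α)
    (l : List (α × α × α)) (hl : ∀ x, x ∈ walk edges [p, q] l) :
    (PresentedGroup.of p : CoxPresented α edges extra) ≠ PresentedGroup.of q := by
  intro h
  refine absurd (comm_of_eq fun x => of_walk hn (g := PresentedGroup.of p) l [p, q] ?_ x (hl x)) hcard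
  intro z hz
  simp only [List.mem_cons, List.not_mem_nil, or_false] at hz
  rcases hz with rfl | rfl
  · rfl
  · exact h.symm

/-- three disjoint edges of a Coxeter diagram -/
theorem not_rank_of_cox (hn : ∀ x : α, x ∈ coxNodes edges)
    (hcard : ¬ ∀ a b : CoxPresented α edges extra, a * b = b * a) (p₁ q₁ p₂ q₂ p₃ q₃ : α)
    (e₁ : coxLabel edges p₁ q₁ = 3) (e₂ : coxLabel edges p₂ q₂ = 3) (e₃ : coxLabel edges p₃ q₃ = 3)
    (hc : ∀ x ∈ [p₁, q₁], ∀ y ∈ [p₂, q₂, p₃, q₃], coxLabel edges x y = 2)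
    (hc' : ∀ x ∈ [p₂, q₂], ∀ y ∈ [p₃, q₃], coxLabel edges x y = 2)
    (l₁ l₂ l₃ : List (α × α × α)) (h₁ : ∀ x, x ∈ walk edges [p₁, q₁] l₁) (h₂ : ∀ x, x ∈ walk edges [p₂, q₂] l₂)
    (h₃ : ∀ x, x ∈ walk edges [p₃, q₃] l₃) (H : Subgroup (CoxPresented α edges extra)) [Finite H]
    (m₁ : (PresentedGroup.of p₁ : CoxPresented α edges extra) * PresentedGroup.of q₁ ∈ H)
    (m₂ : (PresentedGroup.of p₂ : CoxPresented α edges extra) * PresentedGroup.of q₂ ∈ H)
    (m₃ : (PresentedGroup.of p₃ : CoxPresented α edges extra) * PresentedGroup.of q₃ ∈ H) : ¬ Cfsg.PRankLE 3 2 H := by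
  refine not_rank_of_edges (cox_sq (hn q₁)) (cox_sq (hn p₂)) (cox_sq (hn q₂)) (cox_sq (hn p₃)) (cox_sq (hn q₃))
    (cox_three (hn _) (hn _) e₁) (cox_three (hn _) (hn _) e₂) (cox_three (hn _) (hn _) e₃)
    (ne_of_walk hn hcard _ _ l₁ h₁) (ne_of_walk hn hcard _ _ l₂ h₂) (ne_of_walk hn hcard _ _ l₃ h₃)
    (cox_comm (hn _) (hn _) (hc _ (by simp) _ (by simp))) (cox_comm (hn _) (hn _) (hc _ (by simp) _ (by simp)))
    (cox_comm (hn _) (hn _) (hc _ (by simp) _ (by simp))) (cox_comm (hn _) (hn _) (hc _ (by simp) _ (by simp)))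
    (cox_comm (hn _) (hn _) (hc _ (by simp) _ (by simp))) (cox_comm (hn _) (hn _) (hc _ (by simp) _ (by simp)))
    (cox_comm (hn _) (hn _) (hc _ (by simp) _ (by simp))) (cox_comm (hn _) (hn _) (hc _ (by simp) _ (by simp)))
    (cox_comm (hn _) (hn _) (hc' _ (by simp) _ (by simp))) (cox_comm (hn _) (hn _) (hc' _ (by simp) _ (by simp)))
    (cox_comm (hn _) (hn _) (hc' _ (by simp) _ (by simp))) (cox_comm (hn _) (hn _) (hc' _ (by simp) _ (by simp)))
    H m₁ m₂ m₃

end

/-! ### the diagrams -/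

theorem nodes_Fi22 (x : Fi22.Gen) : x ∈ coxNodes Fi22.edges := by cases x <;> decide

theorem Fi22_sub (hcard : ¬ ∀ a b : Fi22, a * b = b * a) (H : Subgroup Fi22) [Finite H]
    (m₁ : (PresentedGroup.of Fi22.Gen.a : Fi22) * PresentedGroup.of Fi22.Gen.b ∈ H)
    (m₂ : (PresentedGroup.of Fi22.Gen.f : Fi22) * PresentedGroup.of Fi22.Gen.g ∈ H)
    (m₃ : (PresentedGroup.of Fi22.Gen.h : Fi22) * PresentedGroup.of Fi22.Gen.i ∈ H) : ¬ Cfsg.PRankLE 3 2 H :=
  not_rank_of_cox nodes_Fi22 hcard .a .b .f .g .h .i (by decide) (by decide) (by decide) (by decide)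
    (by decide)
    [(.a, .b, .c), (.a, .c, .d), (.a, .d, .e), (.a, .d, .h), (.a, .e, .f), (.a, .h, .i), (.a, .f, .g)]
    [(.g, .f, .e), (.f, .e, .d), (.f, .d, .c), (.f, .d, .h), (.f, .c, .b), (.f, .h, .i), (.f, .b, .a)]
    [(.i, .h, .d), (.h, .d, .c), (.h, .d, .e), (.h, .c, .b), (.h, .e, .f), (.h, .b, .a), (.h, .f, .g)]
    (fun x => by cases x <;> decide) (fun x => by cases x <;> decide) (fun x => by cases x <;> decide) H m₁ m₂ m₃

theorem Fi22_row [Finite Fi22] (hcard : ¬ ∀ a b : Fi22, a * b = b * a) : ¬ Cfsg.PRankLE 3 2 Fi22 := fun h =>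
  Fi22_sub hcard ⊤ (mem_top _) (mem_top _) (mem_top _)
    (prank_of_injective (⊤ : Subgroup Fi22).subtype (Subgroup.subtype_injective _) h)

theorem nodes_Fi23 (x : Fi23.Gen) : x ∈ coxNodes Fi23.edges := by cases x <;> decide

theorem Fi23_sub (hcard : ¬ ∀ a b : Fi23, a * b = b * a) (H : Subgroup Fi23) [Finite H]
    (m₁ : (PresentedGroup.of Fi23.Gen.a : Fi23) * PresentedGroup.of Fi23.Gen.b ∈ H)
    (m₂ : (PresentedGroup.of Fi23.Gen.f : Fi23) * PresentedGroup.of Fi23.Gen.g ∈ H)
    (m₃ : (PresentedGroup.of Fi23.Gen.h : Fi23) * PresentedGroup.of Fi23.Gen.i ∈ H) : ¬ Cfsg.PRankLE 3 2 H :=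
  not_rank_of_cox nodes_Fi23 hcard .a .b .f .g .h .i (by decide) (by decide) (by decide) (by decide)
    (by decide)
    [(.a, .b, .c), (.a, .c, .d), (.a, .d, .e), (.a, .d, .h), (.a, .e, .f), (.a, .h, .i), (.a, .f, .g), (.a, .g, .j)]
    [(.g, .f, .e), (.f, .g, .j), (.f, .e, .d), (.f, .d, .c), (.f, .d, .h), (.f, .c, .b), (.f, .h, .i), (.f, .b, .a)]
    [(.i, .h, .d), (.h, .d, .c), (.h, .d, .e), (.h, .c, .b), (.h, .e, .f), (.h, .b, .a), (.h, .f, .g), (.h, .g, .j)]
    (fun x => by cases x <;> decide) (fun x => by cases x <;> decide) (fun x => by cases x <;> decide) H m₁ m₂ m₃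

theorem Fi23_row [Finite Fi23] (hcard : ¬ ∀ a b : Fi23, a * b = b * a) : ¬ Cfsg.PRankLE 3 2 Fi23 := fun h =>
  Fi23_sub hcard ⊤ (mem_top _) (mem_top _) (mem_top _)
    (prank_of_injective (⊤ : Subgroup Fi23).subtype (Subgroup.subtype_injective _) h)

theorem nodes_Fi24 (x : Fi24.Gen) : x ∈ coxNodes Fi24.edges := by cases x <;> decide

theorem Fi24_sub (hcard : ¬ ∀ a b : Fi24, a * b = b * a) (H : Subgroup Fi24) [Finite H]
    (m₁ : (PresentedGroup.of Fi24.Gen.a : Fi24) * PresentedGroup.of Fi24.Gen.b ∈ H)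
    (m₂ : (PresentedGroup.of Fi24.Gen.f : Fi24) * PresentedGroup.of Fi24.Gen.g ∈ H)
    (m₃ : (PresentedGroup.of Fi24.Gen.h : Fi24) * PresentedGroup.of Fi24.Gen.i ∈ H) : ¬ Cfsg.PRankLE 3 2 H :=
  not_rank_of_cox nodes_Fi24 hcard .a .b .f .g .h .i (by decide) (by decide) (by decide) (by decide)
    (by decide)
    [(.b, .a, .k), (.a, .b, .c), (.a, .k, .l), (.a, .c, .d), (.a, .d, .e), (.a, .d, .h), (.a, .e, .f), (.a, .h, .i), (.a, .f, .g), (.a, .g, .j)]
    [(.g, .f, .e), (.f, .g, .j), (.f, .e, .d), (.f, .d, .c), (.f, .d, .h), (.f, .c, .b), (.f, .h, .i), (.f, .b, .a), (.f, .a, .k), (.f, .k, .l)]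
    [(.i, .h, .d), (.h, .d, .c), (.h, .d, .e), (.h, .c, .b), (.h, .e, .f), (.h, .b, .a), (.h, .f, .g), (.h, .a, .k), (.h, .g, .j), (.h, .k, .l)]
    (fun x => by cases x <;> decide) (fun x => by cases x <;> decide) (fun x => by cases x <;> decide) H m₁ m₂ m₃

theorem Fi24'_row [Finite Fi24'] (hcard : ¬ ∀ a b : Fi24, a * b = b * a) : ¬ Cfsg.PRankLE 3 2 Fi24' := by
  have hc : ∀ x y : Fi24.Gen, coxLabel Fi24.edges x y = 3 →
      (PresentedGroup.of x : Fi24) * PresentedGroup.of y ∈ commutator Fi24 := fun x y h =>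
    mul_mem_commutator (cox_sq (nodes_Fi24 x)) (cox_sq (nodes_Fi24 y)) (cox_three (nodes_Fi24 x) (nodes_Fi24 y) h)
  exact Fi24_sub hcard _ (hc _ _ (by decide)) (hc _ _ (by decide)) (hc _ _ (by decide))

theorem nodes_BabyMonster (x : BabyMonster.Gen) : x ∈ coxNodes BabyMonster.edges := by cases x <;> decide

theorem BabyMonster_sub (hcard : ¬ ∀ a b : BabyMonster, a * b = b * a) (H : Subgroup BabyMonster) [Finite H]
    (m₁ : (PresentedGroup.of BabyMonster.Gen.t1 : BabyMonster) * PresentedGroup.of BabyMonster.Gen.t2 ∈ H)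
    (m₂ : (PresentedGroup.of BabyMonster.Gen.t7 : BabyMonster) * PresentedGroup.of BabyMonster.Gen.t8 ∈ H)
    (m₃ : (PresentedGroup.of BabyMonster.Gen.t10 : BabyMonster) * PresentedGroup.of BabyMonster.Gen.t11 ∈ H) : ¬ Cfsg.PRankLE 3 2 H :=
  not_rank_of_cox nodes_BabyMonster hcard .t1 .t2 .t7 .t8 .t10 .t11 (by decide) (by decide) (by decide) (by decide)
    (by decide)
    [(.t1, .t2, .t3), (.t1, .t3, .t4), (.t1, .t4, .t5), (.t1, .t5, .t6), (.t1, .t5, .t9), (.t1, .t6, .t7), (.t1, .t9, .t10), (.t1, .t7, .t8), (.t1, .t10, .t11)]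
    [(.t8, .t7, .t6), (.t7, .t6, .t5), (.t7, .t5, .t4), (.t7, .t5, .t9), (.t7, .t4, .t3), (.t7, .t9, .t10), (.t7, .t3, .t2), (.t7, .t10, .t11), (.t7, .t2, .t1)]
    [(.t11, .t10, .t9), (.t10, .t9, .t5), (.t10, .t5, .t4), (.t10, .t5, .t6), (.t10, .t4, .t3), (.t10, .t6, .t7), (.t10, .t3, .t2), (.t10, .t7, .t8), (.t10, .t2, .t1)]
    (fun x => by cases x <;> decide) (fun x => by cases x <;> decide) (fun x => by cases x <;> decide) H m₁ m₂ m₃

theorem BabyMonster_row [Finite BabyMonster] (hcard : ¬ ∀ a b : BabyMonster, a * b = b * a) : ¬ Cfsg.PRankLE 3 2 BabyMonster := fun h =>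
  BabyMonster_sub hcard ⊤ (mem_top _) (mem_top _) (mem_top _)
    (prank_of_injective (⊤ : Subgroup BabyMonster).subtype (Subgroup.subtype_injective _) h)

theorem nodes_Bimonster (x : Bimonster.Gen) : x ∈ coxNodes Bimonster.edges := by cases x <;> decide

theorem Bimonster_sub (hcard : ¬ ∀ a b : Bimonster, a * b = b * a) (H : Subgroup Bimonster) [Finite H]
    (m₁ : (PresentedGroup.of Bimonster.Gen.c1 : Bimonster) * PresentedGroup.of Bimonster.Gen.d1 ∈ H)
    (m₂ : (PresentedGroup.of Bimonster.Gen.c2 : Bimonster) * PresentedGroup.of Bimonster.Gen.d2 ∈ H)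
    (m₃ : (PresentedGroup.of Bimonster.Gen.c3 : Bimonster) * PresentedGroup.of Bimonster.Gen.d3 ∈ H) : ¬ Cfsg.PRankLE 3 2 H :=
  not_rank_of_cox nodes_Bimonster hcard .c1 .d1 .c2 .d2 .c3 .d3 (by decide) (by decide) (by decide) (by decide)
    (by decide)
    [(.d1, .c1, .b1), (.c1, .d1, .e1), (.c1, .b1, .a), (.c1, .e1, .f1), (.c1, .a, .b2), (.c1, .a, .b3), (.c1, .b2, .c2), (.c1, .b3, .c3), (.c1, .c2, .d2), (.c1, .c3, .d3), (.c1, .d2, .e2), (.c1, .d3, .e3), (.c1, .e2, .f2), (.c1, .e3, .f3)]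
    [(.d2, .c2, .b2), (.c2, .d2, .e2), (.c2, .b2, .a), (.c2, .e2, .f2), (.c2, .a, .b1), (.c2, .a, .b3), (.c2, .b1, .c1), (.c2, .b3, .c3), (.c2, .c1, .d1), (.c2, .c3, .d3), (.c2, .d1, .e1), (.c2, .d3, .e3), (.c2, .e1, .f1), (.c2, .e3, .f3)]
    [(.d3, .c3, .b3), (.c3, .d3, .e3), (.c3, .b3, .a), (.c3, .e3, .f3), (.c3, .a, .b1), (.c3, .a, .b2), (.c3, .b1, .c1), (.c3, .b2, .c2), (.c3, .c1, .d1), (.c3, .c2, .d2), (.c3, .d1, .e1), (.c3, .d2, .e2), (.c3, .e1, .f1), (.c3, .e2, .f2)]
    (fun x => by cases x <;> decide) (fun x => by cases x <;> decide) (fun x => by cases x <;> decide) H m₁ m₂ m₃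

theorem Monster_row [Finite Monster] (hcard : ¬ ∀ a b : Bimonster, a * b = b * a) : ¬ Cfsg.PRankLE 3 2 Monster := by
  have hc : ∀ x y : Bimonster.Gen, coxLabel Bimonster.edges x y = 3 → coxLabel Bimonster.edges x .a = 2 →
      coxLabel Bimonster.edges y .a = 2 → (PresentedGroup.of x : Bimonster) * PresentedGroup.of y ∈
        Subgroup.centralizer {(PresentedGroup.of Bimonster.Gen.a : Bimonster)} ⊓ commutator Bimonster := by
    intro x y h hx hy
    refine ⟨mul_mem (mem_centralizer_singleton_iff.2 (cox_comm (nodes_Bimonster x) (nodes_Bimonster _) hx))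
      (mem_centralizer_singleton_iff.2 (cox_comm (nodes_Bimonster y) (nodes_Bimonster _) hy)), ?_⟩
    exact mul_mem_commutator (cox_sq (nodes_Bimonster x)) (cox_sq (nodes_Bimonster y))
      (cox_three (nodes_Bimonster x) (nodes_Bimonster y) h)
  exact Bimonster_sub hcard _ (hc _ _ (by decide) (by decide) (by decide)) (hc _ _ (by decide) (by decide) (by decide))
    (hc _ _ (by decide) (by decide) (by decide))

/-! ### the rows, from order and simplicity -/

/-- a finite simple group of composite order is not commutative -/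
theorem not_comm {G : Type*} [Group G] (hs : IsSimpleGroup G) (hp : ¬ (Nat.card G).Prime) :
    ¬ ∀ a b : G, a * b = b * a := by
  intro h
  have hG : IsMulCommutative G := ⟨⟨h⟩⟩
  exact hp (Group.is_simple_iff_prime_card.1 hs)

universe u

theorem row_fi22 (h : Cfsg.IsFi22 Fi22) (G : Type u) [Group G] [Finite G] (hG : IsoFi22 G) : ¬ Cfsg.PRankLE 3 2 G := by
  obtain ⟨e⟩ := hG
  have hf : Finite Fi22 := Finite.of_equiv _ e.toEquiv
  intro h1
  refine Fi22_row (not_comm h.1 (by rw [h.2]; norm_num)) ?_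
  exact prank_of_injective e.symm.toMonoidHom e.symm.injective h1

theorem row_fi23 (h : Cfsg.IsFi23 Fi23) (G : Type u) [Group G] [Finite G] (hG : IsoFi23 G) : ¬ Cfsg.PRankLE 3 2 G := by
  obtain ⟨e⟩ := hG
  have hf : Finite Fi23 := Finite.of_equiv _ e.toEquiv
  intro h1
  refine Fi23_row (not_comm h.1 (by rw [h.2]; norm_num)) ?_
  exact prank_of_injective e.symm.toMonoidHom e.symm.injective h1

theorem row_b (h : Cfsg.IsB BabyMonster) (G : Type u) [Group G] [Finite G] (hG : IsoB G) : ¬ Cfsg.PRankLE 3 2 G := by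
  obtain ⟨e⟩ := hG
  have hf : Finite BabyMonster := Finite.of_equiv _ e.toEquiv
  intro h1
  refine BabyMonster_row (not_comm h.1 (by rw [h.2]; norm_num)) ?_
  exact prank_of_injective e.symm.toMonoidHom e.symm.injective h1

/-- a group with nontrivial subgroup of its commutator subgroup is not commutative -/
theorem not_comm_of_commutator {G : Type*} [Group G] {x : G} (hx : x ∈ commutator G) (h1 : x ≠ 1) :
    ¬ ∀ a b : G, a * b = b * a := by
  intro h
  apply h1
  have h2 : commutator G = ⊥ := by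
    rw [_root_.commutator_def, commutator_eq_bot_iff_le_centralizer]
    intro a _
    rw [mem_centralizer_iff]
    exact fun b _ => h b a
  rw [h2, mem_bot] at hx
  exact hx

theorem row_fi24' (h : Cfsg.IsFi24' Fi24') (G : Type u) [Group G] [Finite G] (hG : IsoFi24' G) :
    ¬ Cfsg.PRankLE 3 2 G := by
  obtain ⟨e⟩ := hG
  have hf : Finite Fi24' := Finite.of_equiv _ e.toEquiv
  have hs := h.1
  obtain ⟨x, hx⟩ := exists_ne (1 : Fi24')
  intro h1
  refine Fi24'_row (not_comm_of_commutator x.2 fun h2 => hx (Subtype.ext h2)) ?_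
  exact prank_of_injective e.symm.toMonoidHom e.symm.injective h1

theorem row_m (h : Cfsg.IsM Monster) (G : Type u) [Group G] [Finite G] (hG : IsoM G) : ¬ Cfsg.PRankLE 3 2 G := by
  obtain ⟨e⟩ := hG
  have hf : Finite Monster := Finite.of_equiv _ e.toEquiv
  have hs := h.1
  obtain ⟨x, hx⟩ := exists_ne (1 : Monster)
  intro h1
  refine Monster_row (not_comm_of_commutator x.2.2 fun h2 => hx (Subtype.ext h2)) ?_
  exact prank_of_injective e.symm.toMonoidHom e.symm.injective h1

end Cfsg.Agent.Omega.Quasithin.Row.Cox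

end

section


/-!
# TABLE 2F: `LB K 54` for `K = Fi22, Fi23, Fi24'`

`lb_fi22`, `lb_fi23` : from simplicity; `lb_fi24` : from simplicity and the spider relation in `Fi24`
(`Fischer.Fi24Spider`).
-/

set_option autoImplicit false
set_option maxRecDepth 10000

universe u v w

namespace Cfsg.Agent.Omega.TwoF.RowFiLB

open Subgroup Cfsg.Spor Cfsg.Agent.Omega.Quasithin.Row.E27 Cfsg.Agent.Omega.Quasithin.Row.Cox
open Cfsg.Agent.Fischer.Derived (M8 lab ev spider ev_cons ev_nil)
open Cfsg.Agent.Omega.TwoF.FiCfg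
open Cfsg.Agent.Omega.Lie.Heis (LB)

section

variable {α : Type*} [DecidableEq α] {edges : List (α × ℕ × α)} {extra : List (FreeGroup α)}

/-- the elements `b, …, i` -/
def sn (extra : List (FreeGroup α)) (edges : List (α × ℕ × α)) (nd : Fin 8 → α) (k : Fin 8) :
    CoxPresented α edges extra := PresentedGroup.of (nd k)

theorem lift (hn : ∀ x, x ∈ coxNodes edges) (nd : Fin 8 → α) (h : ∀ i j, lab i j = coxLabel edges (nd i) (nd j)) :
    M8.IsLiftable (sn extra edges nd) := by
  intro i j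
  show (sn extra edges nd i * sn extra edges nd j) ^ lab i j = 1
  rw [h]
  exact cox (hn _) (hn _)

/-- **`LB K 54` for a simple group presented on a Coxeter diagram with the spider relation.** -/
theorem lb [IsSimpleGroup (CoxPresented α edges extra)] (hn : ∀ x, x ∈ coxNodes edges) (nd : Fin 8 → α)
    (h : ∀ i j, lab i j = coxLabel edges (nd i) (nd j)) (hsp : ev (sn extra edges nd) spider ^ 10 = 1) (a : α)
    (hb : coxLabel edges a (nd 0) = 3) (hc : ∀ i : Fin 8, i ≠ 0 → i ≠ 5 → coxLabel edges a (nd i) = 2)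
    (hab : (PresentedGroup.of a : CoxPresented α edges extra) ≠ PresentedGroup.of (nd 0)) :
    LB.{_, v, w} (CoxPresented α edges extra) 54 :=
  (cfg (lift hn nd h) hsp).lb (Z_ne (lift hn nd h) (a := PresentedGroup.of a) (cox_sq (hn a))
    (cox_three (hn _) (hn _) hb) hab (fun i h0 h5 => cox_comm (hn _) (hn _) (hc i h0 h5)))

end

theorem lb_fi22 [hs : IsSimpleGroup Fi22] (hcard : ¬ ∀ a b : Fi22, a * b = b * a) : LB.{0, v, w} Fi22 54 := by
  refine lb nodes_Fi22 ![.b, .c, .d, .e, .f, .g, .h, .i] (by decide) ?_ .a (by decide) (by decide)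
    (ne_of_walk nodes_Fi22 hcard _ _
      [(.a, .b, .c), (.a, .c, .d), (.a, .d, .e), (.a, .d, .h), (.a, .e, .f), (.a, .h, .i), (.a, .f, .g)]
      (fun x => by cases x <;> decide))
  have h : (Fi22.d * Fi22.c * Fi22.b * Fi22.d * Fi22.e * Fi22.f * Fi22.d * Fi22.h * Fi22.i) ^ 10 ∈
      coxRelators Fi22.edges ∪ {r | r ∈ Fi22.extra} := by
    right
    show _ ∈ Fi22.extra
    unfold Fi22.extra
    simp
  have h1 := PresentedGroup.one_of_mem h
  simp only [map_mul, map_pow] at h1
  rw [← h1]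
  congr 1

theorem lb_fi23 [hs : IsSimpleGroup Fi23] (hcard : ¬ ∀ a b : Fi23, a * b = b * a) : LB.{0, v, w} Fi23 54 := by
  refine lb nodes_Fi23 ![.b, .c, .d, .e, .f, .g, .h, .i] (by decide) ?_ .a (by decide) (by decide)
    (ne_of_walk nodes_Fi23 hcard _ _
      [(.a, .b, .c), (.a, .c, .d), (.a, .d, .e), (.a, .d, .h), (.a, .e, .f), (.a, .h, .i), (.a, .f, .g), (.a, .g, .j)]
      (fun x => by cases x <;> decide))
  have h : (Fi23.d * Fi23.c * Fi23.b * Fi23.d * Fi23.e * Fi23.f * Fi23.d * Fi23.h * Fi23.i) ^ 10 ∈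
      coxRelators Fi23.edges ∪ {r | r ∈ Fi23.extra} := by
    right
    show _ ∈ Fi23.extra
    unfold Fi23.extra
    simp
  have h1 := PresentedGroup.one_of_mem h
  simp only [map_mul, map_pow] at h1
  rw [← h1]
  congr 1

/-! ### `Fi24'` -/

/-- the generator `x` of `Fi24` -/
abbrev gx (x : Fi24.Gen) : Fi24 := PresentedGroup.of x

theorem l_comm {x : Fi24.Gen} (h : coxLabel Fi24.edges x .l = 2) : gx x * gx .l = gx .l * gx x :=
  cox_comm (nodes_Fi24 _) (nodes_Fi24 _) h

theorem l_sq : gx .l * gx .l = 1 := cox_sq (nodes_Fi24 _)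

/-- `x * l` lies in the commutator subgroup -/
theorem mem_comm (x : Fi24.Gen) : gx x * gx .l ∈ commutator Fi24 := by
  have h : ∀ x y : Fi24.Gen, coxLabel Fi24.edges x y = 3 → gx y * gx .l ∈ commutator Fi24 →
      gx x * gx .l ∈ commutator Fi24 := by
    intro x y h3 hy
    have h1 : gx x * gx y ∈ commutator Fi24 :=
      mul_mem_commutator (cox_sq (nodes_Fi24 x)) (cox_sq (nodes_Fi24 y)) (cox_three (nodes_Fi24 x) (nodes_Fi24 y) h3)
    have h2 : gx x * gx .l = gx x * gx y * (gx y * gx .l) := by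
      rw [mul_assoc, ← mul_assoc (gx y), cox_sq (nodes_Fi24 y), one_mul]
    rw [h2]
    exact mul_mem h1 hy
  have hl : gx .l * gx .l ∈ commutator Fi24 := by rw [l_sq]; exact one_mem _
  have hk := h .k .l (by decide) hl
  have ha := h .a .k (by decide) hk
  have hb := h .b .a (by decide) ha
  have hc := h .c .b (by decide) hb
  have hd := h .d .c (by decide) hc
  have he := h .e .d (by decide) hd
  have hf := h .f .e (by decide) he
  have hg := h .g .f (by decide) hf
  have hj := h .j .g (by decide) hg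
  have hh := h .h .d (by decide) hd
  have hi := h .i .h (by decide) hh
  cases x <;> assumption

/-- the element `x * l` of `Fi24'` -/
def sl (x : Fi24.Gen) : Fi24' := ⟨gx x * gx .l, mem_comm x⟩

theorem sl_mul {x y : Fi24.Gen} (_ : coxLabel Fi24.edges x .l = 2) (hy : coxLabel Fi24.edges y .l = 2) :
    ((sl x * sl y : Fi24') : Fi24) = gx x * gx y := by
  show gx x * gx .l * (gx y * gx .l) = _
  rw [l_comm hy, mul_assoc, ← mul_assoc (gx .l), l_sq, one_mul]

theorem sl_pow {x y : Fi24.Gen} (hx : coxLabel Fi24.edges x .l = 2) (hy : coxLabel Fi24.edges y .l = 2) :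
    (sl x * sl y) ^ coxLabel Fi24.edges x y = 1 := by
  apply Subtype.ext
  rw [Subgroup.coe_pow, sl_mul hx hy, cox (nodes_Fi24 _) (nodes_Fi24 _)]
  rfl

/-- the eight nodes -/
def nd : Fin 8 → Fi24.Gen := ![.b, .c, .d, .e, .f, .g, .h, .i]

theorem nd_l : ∀ i, coxLabel Fi24.edges (nd i) .l = 2 := by decide

theorem nd_lab : ∀ i j, lab i j = coxLabel Fi24.edges (nd i) (nd j) := by decide

theorem lift_sl : M8.IsLiftable fun i => sl (nd i) := by
  intro i j
  show (sl (nd i) * sl (nd j)) ^ lab i j = 1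
  rw [nd_lab]
  exact sl_pow (nd_l i) (nd_l j)

theorem ev_sl (w : List (Fin 8)) : ((ev (fun i => sl (nd i)) w : Fi24') : Fi24) =
    ev (fun i => gx (nd i)) w * gx .l ^ w.length := by
  induction w with
  | nil => rw [ev_nil, ev_nil, List.length_nil, pow_zero, mul_one]; rfl
  | cons i w ih =>
    rw [ev_cons, ev_cons, Subgroup.coe_mul, ih, List.length_cons]
    have h1 : ∀ w : List (Fin 8), ev (fun i => gx (nd i)) w * gx .l = gx .l * ev (fun i => gx (nd i)) w := by
      intro w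
      induction w with
      | nil => rw [ev_nil, one_mul, mul_one]
      | cons j w ih =>
        rw [ev_cons, mul_assoc, ih, ← mul_assoc, l_comm (nd_l j), mul_assoc]
    show gx (nd i) * gx .l * (ev (fun i => gx (nd i)) w * gx .l ^ w.length) = _
    rw [mul_assoc (gx (nd i)), ← mul_assoc (gx .l), ← h1, pow_succ']
    simp only [mul_assoc]

theorem spider_sl (hsp : ev (fun i => gx (nd i)) spider ^ 10 = 1) : ev (fun i => sl (nd i)) spider ^ 10 = 1 := by
  apply Subtype.ext
  rw [Subgroup.coe_pow, ev_sl]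
  have h1 : ∀ w : List (Fin 8), Commute (ev (fun i => gx (nd i)) w) (gx .l) := by
    intro w
    induction w with
    | nil => rw [ev_nil]; exact Commute.one_left _
    | cons j w ih =>
      rw [ev_cons]
      exact Commute.mul_left (l_comm (nd_l j)) ih
  have h2 : Commute (ev (fun i => gx (nd i)) spider) (gx .l ^ spider.length) := (h1 _).pow_right _
  rw [h2.mul_pow, hsp, one_mul, ← pow_mul]
  have h3 : gx .l ^ 2 = 1 := by rw [pow_two]; exact l_sq
  have h4 : spider.length * 10 = 2 * 45 := by decide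
  rw [h4, pow_mul, h3, one_pow]
  rfl

theorem lb_fi24 [hs : IsSimpleGroup Fi24'] (hsp : ev (fun i => gx (nd i)) spider ^ 10 = 1) :
    LB.{0, v, w} Fi24' 54 := by
  obtain ⟨x, hx⟩ := exists_ne (1 : Fi24')
  have hcard := not_comm_of_commutator x.2 fun h2 => hx (Subtype.ext h2)
  have hab : gx .a ≠ gx .b := ne_of_walk nodes_Fi24 hcard _ _
    [(.b, .a, .k), (.a, .b, .c), (.a, .k, .l), (.a, .c, .d), (.a, .d, .e), (.a, .d, .h), (.a, .e, .f), (.a, .h, .i),
      (.a, .f, .g), (.a, .g, .j)] (fun x => by cases x <;> decide)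
  have hal : coxLabel Fi24.edges .a .l = 2 := by decide
  refine (cfg lift_sl (spider_sl hsp)).lb (Z_ne lift_sl (a := sl .a) ?_ ?_ ?_ ?_)
  · have := sl_pow (x := .a) (y := .a) hal hal
    rwa [coxLabel, if_pos rfl, pow_one] at this
  · exact sl_pow (x := .a) (y := .b) hal (by decide)
  · intro h
    apply hab
    have h1 : gx .a * gx .l = gx .b * gx .l := congrArg Subtype.val h
    exact mul_right_cancel h1
  · intro i h0 h5
    have h2 : coxLabel Fi24.edges .a (nd i) = 2 := by revert h0 h5; revert i; decide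
    have h3 : coxLabel Fi24.edges (nd i) .a = 2 := by revert h0 h5; revert i; decide
    apply Subtype.ext
    rw [sl_mul hal (nd_l i), sl_mul (nd_l i) hal]
    exact cox_comm (nodes_Fi24 _) (nodes_Fi24 _) h2

end Cfsg.Agent.Omega.TwoF.RowFiLB

end

section


/-!
# TABLE 2F: `LB B 54` for the Baby Monster (helper416, with helper871's configuration)
-/

set_option autoImplicit false
set_option maxRecDepth 10000

universe v w

namespace Cfsg.Agent.Omega.TwoF.RowBLB

open Subgroup Cfsg.Spor Cfsg.Agent.Omega.Quasithin.Row.Cox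
open Cfsg.Agent.Fischer.Derived (M8 lab ev spider ev_cons ev_nil)
open Cfsg.Agent.Omega.Lie.Heis (LB)

/-- **`LB B 54`.** -/
theorem lb [hs : IsSimpleGroup BabyMonster] (hcard : ¬ ∀ a b : BabyMonster, a * b = b * a) :
    LB.{0, v, w} BabyMonster 54 := by
  refine RowFiLB.lb nodes_BabyMonster ![.t3, .t4, .t5, .t6, .t7, .t8, .t9, .t10] (by decide) ?_ .t2 (by decide)
    (by decide)
    (ne_of_walk nodes_BabyMonster hcard _ _
      [(.t3, .t2, .t1), (.t2, .t3, .t4), (.t2, .t4, .t5), (.t2, .t5, .t6), (.t2, .t5, .t9), (.t2, .t6, .t7), (.t2, .t9, .t10),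
        (.t2, .t7, .t8), (.t2, .t10, .t11)]
      (fun x => by cases x <;> decide))
  have h : (BabyMonster.t5 * BabyMonster.t4 * BabyMonster.t3 * BabyMonster.t5 * BabyMonster.t6 * BabyMonster.t7 *
      BabyMonster.t5 * BabyMonster.t9 * BabyMonster.t10) ^ 10 ∈
      coxRelators BabyMonster.edges ∪ {r | r ∈ BabyMonster.extra} := by
    right
    show _ ∈ BabyMonster.extra
    unfold BabyMonster.extra
    simp
  have h1 := PresentedGroup.one_of_mem h
  simp only [map_mul, map_pow] at h1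
  rw [← h1]
  congr 1

end Cfsg.Agent.Omega.TwoF.RowBLB

end
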